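import Mathlib
import Cfsg.Agent.Cl.UModel
import Cfsg.Agent.Cl.UOrder

/-! Upper triangular matrices in `SU₅` for the antidiagonal form. -/

set_option autoImplicit false

namespace Cfsg.Agent.U5F

open Cfsg Cfsg.Agent.Cl Matrix

variable {K : Type*} [Field K]

/-- The antidiagonal Gram matrix. -/
def J5 : Matrix (Fin 5) (Fin 5) K :=
  !![0, 0, 0, 0, 1; 0, 0, 0, 1, 0; 0, 0, 1, 0, 0; 0, 1, 0, 0, 0; 1, 0, 0, 0, 0]

abbrev SU5 (σ : K →+* K) : Subgroup (SpecialLinearGroup (Fin 5) K) := uMatSU σ J5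

/-- The unitriangular matrix with coordinates `a, …, f`. -/
def um (σ : K →+* K) (a b c d e f : K) : Matrix (Fin 5) (Fin 5) K :=
  !![1, a, c, d, f; 0, 1, b, e, -σ d - b * σ c - σ a * e; 0, 0, 1, -σ b, -σ c + σ a * σ b;
    0, 0, 0, 1, -σ a; 0, 0, 0, 0, 1]

variable {σ : K →+* K}

theorem det_tri {M : Matrix (Fin 5) (Fin 5) K} (h : ∀ i j, j < i → M i j = 0) :
    M.det = M 0 0 * M 1 1 * M 2 2 * M 3 3 * M 4 4 := by
  rw [det_of_isUpperTriangular (fun i j hij => h i j hij), Fin.prod_univ_five]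

theorem um_tri (a b c d e f : K) : ∀ i j, j < i → um σ a b c d e f i j = 0 := by
  intro i j h
  fin_cases i <;> fin_cases j <;> first | rfl | exact absurd h (by decide)

theorem det_um (a b c d e f : K) : (um σ a b c d e f).det = 1 := by
  rw [det_tri (um_tri a b c d e f)]; simp [um]

theorem um_form (hσ : ∀ x, σ (σ x) = x) {a b c d e f : K} (he : e + σ e + b * σ b = 0)
    (hf : f + σ f + a * σ d + σ a * d + c * σ c = 0) :
    (um σ a b c d e f)ᵀ * J5 * (um σ a b c d e f).map σ = J5 := by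
  ext i j
  fin_cases i <;> fin_cases j <;>
    simp [um, J5, Matrix.mul_apply, Fin.sum_univ_five, hσ] <;>
    first | ring1 | linear_combination he | linear_combination (-a) * he |
      linear_combination (-σ a) * he | linear_combination hf + a * σ a * he

theorem um_mul (hσ : ∀ x, σ (σ x) = x) {a b c d e f a' b' c' d' e' f' : K}
    (he : e + σ e + b * σ b = 0) (he' : e' + σ e' + b' * σ b' = 0) :
    um σ a b c d e f * um σ a' b' c' d' e' f' =
      um σ (a + a') (b + b') (c + c' + a * b') (d + d' + a * e' - c * σ b') (e + e' - b * σ b')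
        (f + f' + a * (-σ d' - b' * σ c' - σ a' * e') + c * (-σ c' + σ a' * σ b') - d * σ a') := by
  ext i j
  fin_cases i <;> fin_cases j <;>
    simp [um, Matrix.mul_apply, Fin.sum_univ_five, hσ] <;>
    first | ring1 | linear_combination (σ a) * he'

theorem um_zero : um σ 0 0 0 0 0 0 = 1 := by
  ext i j
  fin_cases i <;> fin_cases j <;> simp [um]

theorem um_inj {a b c d e f a' b' c' d' e' f' : K} (h : um σ a b c d e f = um σ a' b' c' d' e' f') :
    a = a' ∧ b = b' ∧ c = c' ∧ d = d' ∧ e = e' ∧ f = f' :=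
  ⟨congrFun (congrFun h 0) 1, congrFun (congrFun h 1) 2, congrFun (congrFun h 0) 2,
    congrFun (congrFun h 0) 3, congrFun (congrFun h 1) 3, congrFun (congrFun h 0) 4⟩

theorem form_entry {M : Matrix (Fin 5) (Fin 5) K} (i j : Fin 5) :
    (Mᵀ * J5 * M.map σ : Matrix (Fin 5) (Fin 5) K) i j = M 4 i * σ (M 0 j) + M 3 i * σ (M 1 j) + M 2 i * σ (M 2 j) +
      M 1 i * σ (M 3 j) + M 0 i * σ (M 4 j) := by
  simp [J5, Matrix.mul_apply, Fin.sum_univ_five]

/-- A unitriangular unitary matrix is some `um`. -/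
theorem eq_um (hσ : ∀ x, σ (σ x) = x) {M : Matrix (Fin 5) (Fin 5) K} (h : Mᵀ * J5 * M.map σ = J5)
    (ht : ∀ i j, j < i → M i j = 0) (hd : ∀ i, M i i = 1) :
    M = um σ (M 0 1) (M 1 2) (M 0 2) (M 0 3) (M 1 3) (M 0 4) ∧
      M 1 3 + σ (M 1 3) + M 1 2 * σ (M 1 2) = 0 ∧
      M 0 4 + σ (M 0 4) + M 0 1 * σ (M 0 3) + σ (M 0 1) * M 0 3 + M 0 2 * σ (M 0 2) = 0 := by
  have e := fun i j => (form_entry (σ := σ) (M := M) i j).symm.trans (congrFun (congrFun h i) j)
  have t10 := ht 1 0 (by decide); have t20 := ht 2 0 (by decide); have t30 := ht 3 0 (by decide)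
  have t40 := ht 4 0 (by decide); have t21 := ht 2 1 (by decide); have t31 := ht 3 1 (by decide)
  have t41 := ht 4 1 (by decide); have t32 := ht 3 2 (by decide); have t42 := ht 4 2 (by decide)
  have t43 := ht 4 3 (by decide)
  have e41 := e 4 1; have e32 := e 3 2; have e33 := e 3 3; have e42 := e 4 2; have e43 := e 4 3
  have e44 := e 4 4
  simp only [t10, t20, t30, t40, t21, t31, t41, t32, t42, t43, hd, map_zero, map_one, J5, mul_zero,
    zero_mul, add_zero, zero_add, mul_one, one_mul] at e41 e32 e33 e42 e43 e44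
  simp at e41 e32 e33 e42 e43 e44
  have h34 : M 3 4 = -σ (M 0 1) := by linear_combination e41
  have h23 : M 2 3 = -σ (M 1 2) := by linear_combination e32
  have h24 : M 2 4 = -σ (M 0 2) + σ (M 0 1) * σ (M 1 2) := by
    rw [h34] at e42; linear_combination e42
  have he : M 1 3 + σ (M 1 3) + M 1 2 * σ (M 1 2) = 0 := by
    rw [h23, map_neg, hσ] at e33; linear_combination e33
  have h14 : M 1 4 = -σ (M 0 3) - M 1 2 * σ (M 0 2) - σ (M 0 1) * M 1 3 := by
    rw [h34, h24, h23, map_neg, hσ] at e43; linear_combination e43 + σ (M 0 1) * he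
  refine ⟨?_, he, ?_⟩
  · ext i j
    fin_cases i <;> fin_cases j <;> simp [um, *]
  · rw [h34, h24, h14] at e44
    simp only [map_neg, map_add, map_sub, map_mul, hσ] at e44
    linear_combination e44 - M 0 1 * σ (M 0 1) * he

/-- The element of `SU5` given by `um`. -/
def ue (hσ : ∀ x, σ (σ x) = x) (a b c d e f : K) (he : e + σ e + b * σ b = 0)
    (hf : f + σ f + a * σ d + σ a * d + c * σ c = 0) : SU5 σ :=
  ⟨⟨um σ a b c d e f, det_um a b c d e f⟩, um_form hσ he hf⟩

/-- The matrix of an element of `SU5`. -/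
abbrev mat (g : SU5 σ) : Matrix (Fin 5) (Fin 5) K := g.1.1

theorem mat_mul (g k : SU5 σ) : mat (g * k) = mat g * mat k := rfl

theorem mat_one : mat (1 : SU5 σ) = 1 := rfl

theorem mat_inj {g k : SU5 σ} (h : mat g = mat k) : g = k := Subtype.ext (Subtype.ext h)

theorem mat_form (g : SU5 σ) : (mat g)ᵀ * J5 * (mat g).map σ = J5 := g.2

theorem mat_det (g : SU5 σ) : (mat g).det = 1 := g.1.2

theorem mat_ue (hσ : ∀ x, σ (σ x) = x) (a b c d e f : K) (he hf) :
    mat (ue hσ a b c d e f he hf) = um σ a b c d e f := rfl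

/-- Upper triangular. -/
def Tri (M : Matrix (Fin 5) (Fin 5) K) : Prop := ∀ i j, j < i → M i j = 0

/-- Upper unitriangular. -/
def UTri (M : Matrix (Fin 5) (Fin 5) K) : Prop := Tri M ∧ ∀ i, M i i = 1

theorem utri_um (a b c d e f : K) : UTri (um σ a b c d e f) :=
  ⟨um_tri a b c d e f, fun i => by fin_cases i <;> rfl⟩

/-- An element mapping the unitriangular group into itself by conjugation is triangular. -/
theorem tri_of_norm (h : UInvol σ) {g : SU5 σ}
    (hn : ∀ u : SU5 σ, UTri (mat u) → ∃ u' : SU5 σ, UTri (mat u') ∧ u * g = g * u') : Tri (mat g) := by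
  obtain ⟨e, he⟩ := h.exists_trace_eq (a := -1) (by simp)
  obtain ⟨u, ⟨ut, ud⟩, eu⟩ := hn (ue h.invol 1 0 0 0 0 0 (by simp) (by simp)) (utri_um ..)
  obtain ⟨v, ⟨vt, vd⟩, ev⟩ := hn (ue h.invol 0 1 0 0 e 0 (by simpa using by linear_combination he)
    (by simp)) (utri_um ..)
  have E := fun i j => congrFun (congrFun (congrArg mat eu) i) j
  have F := fun i j => congrFun (congrFun (congrArg mat ev) i) j
  simp only [mat_mul, mat_ue, Matrix.mul_apply, Fin.sum_univ_five] at E F
  set G := mat g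
  have u10 := ut 1 0 (by decide); have u20 := ut 2 0 (by decide); have u30 := ut 3 0 (by decide)
  have u40 := ut 4 0 (by decide); have u21 := ut 2 1 (by decide); have u31 := ut 3 1 (by decide)
  have u41 := ut 4 1 (by decide); have u32 := ut 3 2 (by decide); have u42 := ut 4 2 (by decide)
  have u43 := ut 4 3 (by decide)
  have v10 := vt 1 0 (by decide); have v20 := vt 2 0 (by decide); have v30 := vt 3 0 (by decide)
  have v40 := vt 4 0 (by decide); have v21 := vt 2 1 (by decide); have v31 := vt 3 1 (by decide)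
  have v41 := vt 4 1 (by decide); have v32 := vt 3 2 (by decide); have v42 := vt 4 2 (by decide)
  have v43 := vt 4 3 (by decide)
  have a00 := E 0 0; have a30 := E 3 0; have a31 := E 3 1; have a32 := E 3 2; have a33 := E 3 3
  have b10 := F 1 0; have b20 := F 2 0; have b11 := F 1 1; have b21 := F 2 1; have b22 := F 2 2
  simp [um, u10, u20, u30, u40, u21, u31, u41, u32, u42, u43, ud, v10, v20, v30, v40, v21, v31, v41,
    v32, v42, v43, vd] at a00 a30 a31 a32 a33 b10 b20 b11 b21 b22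
  have g30 : G 3 0 = 0 := b20
  have g20 : G 2 0 = 0 := by rw [g30] at b10; linear_combination b10
  have g41 : G 4 1 = 0 := by rw [g30] at a31; linear_combination -a31
  have g31 : G 3 1 = 0 := by rw [g20] at b21; linear_combination -b21
  have g21 : G 2 1 = 0 := by rw [a00, g31] at b11; linear_combination b11
  have g42 : G 4 2 = 0 := by rw [g30, g31] at a32; linear_combination -a32
  have g32 : G 3 2 = 0 := by rw [g20, g21] at b22; linear_combination -b22
  have g43 : G 4 3 = 0 := by rw [g30, g31, g32] at a33; linear_combination -a33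
  intro i j hij
  fin_cases i <;> fin_cases j <;> first | exact absurd hij (by decide) | assumption

/-! ### Diagonal and field automorphisms -/

/-- The diagonal of the similitude that scales `a` by `α` and `b` by `β`. -/
def dv (σ : K →+* K) (α β : K) : Fin 5 → K :=
  ![α * β * σ (α * β), β * σ (α * β), σ (α * β), σ α, 1]

theorem dv_ne {α β : K} (hα : α ≠ 0) (hβ : β ≠ 0) (i : Fin 5) : dv σ α β i ≠ 0 := by
  fin_cases i <;> simp [dv, hα, hβ]

/-- Conjugation by the diagonal matrix `dv α β` after the field automorphism `φ`. -/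
def am (σ : K →+* K) (α β : K) (φ : K ≃+* K) (M : Matrix (Fin 5) (Fin 5) K) :
    Matrix (Fin 5) (Fin 5) K := of fun i j => dv σ α β i * φ (M i j) / dv σ α β j

theorem am_eq (α β : K) (φ : K ≃+* K) (M : Matrix (Fin 5) (Fin 5) K) :
    am σ α β φ M = diagonal (dv σ α β) * M.map φ * diagonal fun i => (dv σ α β i)⁻¹ := by
  ext i j; simp [am, div_eq_mul_inv]

theorem am_mul {α β : K} (hα : α ≠ 0) (hβ : β ≠ 0) (φ : K ≃+* K) (M N : Matrix (Fin 5) (Fin 5) K) :
    am σ α β φ (M * N) = am σ α β φ M * am σ α β φ N := by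
  ext i j
  simp only [am, of_apply, Matrix.mul_apply, map_sum, map_mul, Finset.mul_sum, Finset.sum_div]
  refine Finset.sum_congr rfl fun k _ => ?_
  have := dv_ne (σ := σ) hα hβ k
  have := dv_ne (σ := σ) hα hβ j
  field_simp

theorem am_am {φ : K ≃+* K} (hφ : ∀ x, φ (σ x) = σ (φ x)) {α β : K} (α' β' : K) (φ' : K ≃+* K)
    (M : Matrix (Fin 5) (Fin 5) K) :
    am σ α β φ (am σ α' β' φ' M) = am σ (α * φ α') (β * φ β') (φ'.trans φ) M := by
  have hd : ∀ i, dv σ (α * φ α') (β * φ β') i = dv σ α β i * φ (dv σ α' β' i) := fun i => by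
    fin_cases i <;> simp [dv, hφ] <;> ring
  ext i j
  simp only [am, of_apply, hd, map_div₀, map_mul, RingEquiv.trans_apply]
  rw [mul_div_assoc', div_div, mul_assoc, mul_comm (φ (dv σ α' β' j))]

theorem am_one (M : Matrix (Fin 5) (Fin 5) K) : am σ 1 1 (RingEquiv.refl K) M = M := by
  have hd : ∀ i, dv σ 1 1 i = 1 := fun i => by fin_cases i <;> simp [dv]
  ext i j; simp [am, hd]

theorem det_am {α β : K} (hα : α ≠ 0) (hβ : β ≠ 0) (φ : K ≃+* K) {M : Matrix (Fin 5) (Fin 5) K}
    (h : M.det = 1) : (am σ α β φ M).det = 1 := by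
  have e : (M.map φ).det = 1 := by
    rw [show M.map φ = (φ : K →+* K).mapMatrix M from rfl, ← RingHom.map_det, h, map_one]
  rw [am_eq, det_mul, det_mul, e, mul_one, ← det_mul, diagonal_mul_diagonal, det_diagonal]
  exact Finset.prod_eq_one fun i _ => mul_inv_cancel₀ (dv_ne hα hβ i)

theorem am_form (hσ : ∀ x, σ (σ x) = x) {φ : K ≃+* K} (hφ : ∀ x, φ (σ x) = σ (φ x)) {α β : K}
    (hα : α ≠ 0) (hβ : β ≠ 0) {M : Matrix (Fin 5) (Fin 5) K} (h : Mᵀ * J5 * M.map σ = J5) :
    (am σ α β φ M)ᵀ * J5 * (am σ α β φ M).map σ = J5 := by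
  ext i j
  have e := congrArg φ ((form_entry (σ := σ) (M := M) i j).symm.trans (congrFun (congrFun h i) j))
  simp only [map_add, map_mul, hφ] at e
  have hi := dv_ne (σ := σ) hα hβ i
  have hj : σ (dv σ α β j) ≠ 0 := (map_ne_zero σ).2 (dv_ne hα hβ j)
  have hJ : φ (J5 i j) * (α * β * σ (α * β)) = J5 i j * (dv σ α β i * σ (dv σ α β j)) := by
    fin_cases i <;> fin_cases j <;> simp [J5, dv, hσ] <;> ring
  rw [form_entry]
  simp only [am, of_apply, map_div₀, map_mul]
  field_simp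
  rw [show dv σ α β 4 = 1 from rfl, show dv σ α β 3 = σ α from rfl,
    show dv σ α β 2 = σ (α * β) from rfl, show dv σ α β 1 = β * σ (α * β) from rfl,
    show dv σ α β 0 = α * β * σ (α * β) from rfl]
  simp only [map_mul, map_one, hσ] at hJ ⊢
  linear_combination (α * β * (σ α * σ β)) * e + hJ

theorem am_um (hσ : ∀ x, σ (σ x) = x) {φ : K ≃+* K} (hφ : ∀ x, φ (σ x) = σ (φ x)) {α β : K}
    (hα : α ≠ 0) (hβ : β ≠ 0) (a b c d e f : K) :
    am σ α β φ (um σ a b c d e f) = um σ (α * φ a) (β * φ b) (α * β * φ c) (α * (β * σ β) * φ d)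
      (β * σ β * φ e) (α * β * σ (α * β) * φ f) := by
  have : σ α ≠ 0 := (map_ne_zero σ).2 hα
  have : σ β ≠ 0 := (map_ne_zero σ).2 hβ
  ext i j
  fin_cases i <;> fin_cases j <;> simp [am, um, dv, hσ, hφ, hα, hβ] <;> field_simp

/-- The automorphism of `SU5` given by `am`. -/
def aut (hσ : ∀ x, σ (σ x) = x) (α β : Kˣ) (φ : K ≃+* K) (hφ : ∀ x, φ (σ x) = σ (φ x)) :
    SU5 σ →* SU5 σ where
  toFun g := ⟨⟨am σ α β φ (mat g), det_am α.ne_zero β.ne_zero φ (mat_det g)⟩,
    am_form hσ hφ α.ne_zero β.ne_zero (mat_form g)⟩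
  map_one' := mat_inj (by
    show am σ α β φ 1 = 1
    rw [← um_zero (σ := σ), am_um hσ hφ α.ne_zero β.ne_zero]; simp)
  map_mul' g k := mat_inj (am_mul α.ne_zero β.ne_zero φ _ _)

theorem mat_aut (hσ : ∀ x, σ (σ x) = x) (α β : Kˣ) (φ : K ≃+* K) (hφ) (g : SU5 σ) :
    mat (aut hσ α β φ hφ g) = am σ α β φ (mat g) := rfl

end Cfsg.Agent.U5F
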