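import Mathlib
import Cfsg.Agent.U5F.Mat

/-! The unitriangular subgroup of `SU₅` is a Sylow subgroup; its normalizer. -/

set_option autoImplicit false

namespace Cfsg.Agent.U5F

open Cfsg Cfsg.Agent.Cl Matrix

variable {K : Type*} [Field K] {σ : K →+* K}

theorem UTri.eq_ue (hσ : ∀ x, σ (σ x) = x) {g : SU5 σ} (h : UTri (mat g)) :
    ∃ a b c d e f he hf, g = ue hσ a b c d e f he hf := by
  obtain ⟨e, h1, h2⟩ := eq_um hσ (mat_form g) h.1 h.2
  exact ⟨_, _, _, _, _, _, h1, h2, mat_inj e⟩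

theorem Tri.mul {M N : Matrix (Fin 5) (Fin 5) K} (h : Tri M) (k : Tri N) : Tri (M * N) :=
  fun i j hij => by
    rw [Matrix.mul_apply]
    refine Finset.sum_eq_zero fun l _ => ?_
    rcases lt_or_ge l i with hl | hl
    · rw [h i l hl, zero_mul]
    · rw [k l j (hij.trans_le hl), mul_zero]

theorem Tri.mul_diag {M N : Matrix (Fin 5) (Fin 5) K} (h : Tri M) (k : Tri N) (i : Fin 5) :
    (M * N) i i = M i i * N i i := by
  rw [Matrix.mul_apply]
  refine Finset.sum_eq_single i (fun l _ hl => ?_) (by simp)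
  rcases lt_or_gt_of_ne hl with hl | hl
  · rw [h i l hl, zero_mul]
  · rw [k l i hl, mul_zero]

theorem mat_inv (g : SU5 σ) (i j : Fin 5) : mat g⁻¹ i j = σ (mat g j.rev i.rev) := by
  have h : (of fun i j : Fin 5 => σ (mat g j.rev i.rev)) * mat g = 1 := by
    ext i j
    have e := (form_entry (σ := σ) (M := mat g) j i.rev).symm.trans
      (congrFun (congrFun (mat_form g) j) i.rev)
    rw [show (1 : Matrix (Fin 5) (Fin 5) K) i j = J5 j i.rev by
      fin_cases i <;> fin_cases j <;> simp [J5], ← e, Matrix.mul_apply, Fin.sum_univ_five]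
    simp only [of_apply]
    rw [show (0 : Fin 5).rev = 4 from rfl, show (1 : Fin 5).rev = 3 from rfl,
      show (2 : Fin 5).rev = 2 from rfl, show (3 : Fin 5).rev = 1 from rfl,
      show (4 : Fin 5).rev = 0 from rfl]
    ring
  have : mat g⁻¹ = of fun i j : Fin 5 => σ (mat g j.rev i.rev) := by
    rw [← one_mul (mat g⁻¹), ← h, Matrix.mul_assoc, ← mat_mul, mul_inv_cancel, mat_one, mul_one]
  rw [this, of_apply]

theorem Tri.inv {g : SU5 σ} (h : Tri (mat g)) : Tri (mat g⁻¹) := fun i j hij => by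
  rw [mat_inv, h _ _ (Fin.rev_lt_rev.2 hij), map_zero]

/-- The unitriangular subgroup. -/
def UU (σ : K →+* K) : Subgroup (SU5 σ) where
  carrier := {g | UTri (mat g)}
  one_mem' := by rw [Set.mem_ofPred_eq, mat_one, ← um_zero (σ := σ)]; exact utri_um ..
  mul_mem' := fun {g k} hg hk => ⟨hg.1.mul hk.1, fun i => by
    rw [mat_mul, hg.1.mul_diag hk.1, hg.2, hk.2, mul_one]⟩
  inv_mem' := fun {g} hg => ⟨hg.1.inv, fun i => by rw [mat_inv, hg.2, map_one]⟩

theorem mem_UU {g : SU5 σ} : g ∈ UU σ ↔ UTri (mat g) := Iff.rfl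

theorem ue_mem (hσ : ∀ x, σ (σ x) = x) (a b c d e f : K) (he hf) :
    ue hσ a b c d e f he hf ∈ UU σ := utri_um ..

theorem card_UU {q : ℕ} (h : UField σ q) : Nat.card (UU σ) = q ^ 10 := by
  have hσ := h.invol.invol
  have := h.finite
  let e : UU σ ≃ Σ x : K × K × K × K, {e : K // e + σ e = -(x.2.1 * σ x.2.1)} ×
      {f : K // f + σ f = -(x.1 * σ x.2.2.2 + σ x.1 * x.2.2.2 + x.2.2.1 * σ x.2.2.1)} :=
    { toFun := fun g => ⟨(mat g.1 0 1, mat g.1 1 2, mat g.1 0 2, mat g.1 0 3),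
        ⟨mat g.1 1 3, by linear_combination (eq_um hσ (mat_form g.1) g.2.1 g.2.2).2.1⟩,
        ⟨mat g.1 0 4, by linear_combination (eq_um hσ (mat_form g.1) g.2.1 g.2.2).2.2⟩⟩
      invFun := fun x => ⟨ue hσ x.1.1 x.1.2.1 x.1.2.2.1 x.1.2.2.2 x.2.1 x.2.2
        (by linear_combination x.2.1.2) (by linear_combination x.2.2.2), ue_mem ..⟩
      left_inv := fun g => Subtype.ext (mat_inj (eq_um hσ (mat_form g.1) g.2.1 g.2.2).1.symm)
      right_inv := fun x => rfl }
  have := Fintype.ofFinite K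
  rw [Nat.card_congr e, Nat.card_sigma, Finset.sum_congr rfl (g := fun _ => q * q) fun x _ => by
    rw [Nat.card_prod, h.card_trace_eq (by simp [hσ, mul_comm]),
      h.card_trace_eq (by simp [hσ, mul_comm, add_comm])]]
  rw [Finset.sum_const, Finset.card_univ, ← Nat.card_eq_fintype_card, Nat.card_prod, Nat.card_prod,
    Nat.card_prod, h.card, smul_eq_mul]
  ring

theorem nonempty_SU5_equiv {q : ℕ} (h : UField σ q) : Nonempty (SU5 σ ≃* SU 5 K q) := by
  refine h.nonempty_uMatSU_equiv ?_ ?_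
  · ext i j; fin_cases i <;> fin_cases j <;> simp [J5]
  · have : (J5 : Matrix (Fin 5) (Fin 5) K) * J5 = 1 := by
      ext i j; fin_cases i <;> fin_cases j <;> simp [J5, Matrix.mul_apply, Fin.sum_univ_five]
    intro e
    have := congrArg det this
    rw [det_mul, e, zero_mul, det_one] at this
    exact zero_ne_one this

theorem finite_SU5 {q : ℕ} (h : UField σ q) : Finite (SU5 σ) := by
  have := h.finite
  exact Finite.of_injective (fun g : SU5 σ => mat g) fun _ _ => mat_inj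

theorem not_dvd_index_UU {p n : ℕ} [hp : Fact p.Prime] (h : UField σ (p ^ n)) (hn : 1 ≤ n) :
    ¬ p ∣ (UU σ).index := by
  obtain ⟨e⟩ := nonempty_SU5_equiv h
  have h1 := h.card_SU (n := 5) (by norm_num)
  rw [← Nat.card_congr e.toEquiv, ← (UU σ).card_mul_index, card_UU h, uOrd] at h1
  set q := p ^ n with hq
  have hpq : p ∣ q := dvd_pow_self p (by omega)
  have h0 : 0 < q := pow_pos hp.out.pos n
  intro hd
  have h2 : p ∣ ∏ i ∈ Finset.range 5, (if Even i then q ^ (i + 1) + 1 else q ^ (i + 1) - 1) := by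
    have : (q + 1) * (UU σ).index =
        ∏ i ∈ Finset.range 5, (if Even i then q ^ (i + 1) + 1 else q ^ (i + 1) - 1) :=
      Nat.eq_of_mul_eq_mul_left (pow_pos h0 10) (by rw [← h1]; ring)
    exact this ▸ hd.mul_left _
  obtain ⟨i, -, hi⟩ := (Prime.dvd_finsetProd_iff hp.out.prime _).1 h2
  have h3 : p ∣ q ^ (i + 1) := hpq.trans (dvd_pow_self q (by omega))
  refine hp.out.one_lt.ne' (Nat.dvd_one.1 ?_)
  split_ifs at hi
  · exact (Nat.dvd_add_right h3).1 hi
  · have := (Nat.dvd_sub_iff_right (Nat.one_le_pow _ _ h0) h3).1 hi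
    exact this

theorem isPGroup_UU {p n : ℕ} [Fact p.Prime] (h : UField σ (p ^ n)) : IsPGroup p (UU σ) :=
  IsPGroup.of_card (n := n * 10) (by rw [card_UU h, pow_mul])

/-- The Sylow subgroups of `PSU₅` are isomorphic to `UU`. -/
theorem nonempty_sylow_equiv {p n : ℕ} [hp : Fact p.Prime] (h : UField σ (p ^ n)) (hn : 1 ≤ n)
    (T : Sylow p (PSU 5 K (p ^ n))) :
    Nonempty ((T : Subgroup (PSU 5 K (p ^ n))) ≃* UU σ) := by
  obtain ⟨e⟩ := nonempty_SU5_equiv h
  have := finite_SU5 h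
  have : Finite (SU 5 K (p ^ n)) := Finite.of_equiv _ e.toEquiv
  let π : SU5 σ →* PSU 5 K (p ^ n) := (QuotientGroup.mk' _).comp e.toMonoidHom
  have hs : Function.Surjective π := (QuotientGroup.mk'_surjective _).comp e.surjective
  let P : Sylow p (SU5 σ) := (isPGroup_UU h).toSylow (not_dvd_index_UU h hn)
  let T' := P.mapSurjective hs
  have hk : ¬ p ∣ Nat.card π.ker := by
    have e1 : Nat.card π.ker = Nat.card (Subgroup.center (SU 5 K (p ^ n))) := by
      rw [← MonoidHom.comap_ker, QuotientGroup.ker_mk']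
      exact Nat.card_congr (e.toEquiv.subtypeEquiv fun _ => Iff.rfl)
    rw [e1, h.card_center_SU (by norm_num)]
    intro hd
    exact hp.out.one_lt.ne' (Nat.dvd_one.1 ((Nat.dvd_add_right (dvd_pow_self p (by omega))).1
      (hd.trans (Nat.gcd_dvd_right _ _))))
  have hi : Function.Injective (π.comp (UU σ).subtype) := by
    rw [injective_iff_map_eq_one]
    intro x hx
    obtain ⟨k, hk'⟩ := IsPGroup.iff_orderOf.1 (isPGroup_UU h) x
    have h1 : orderOf x ∣ Nat.card π.ker := by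
      rw [← Subgroup.orderOf_coe]; exact π.ker.orderOf_dvd_natCard hx
    rw [hk'] at h1
    rcases k with _ | k
    · exact orderOf_eq_one_iff.1 (by rw [hk', pow_zero])
    · exact absurd ((dvd_pow_self p k.succ_ne_zero).trans h1) hk
  have e2 : (π.comp (UU σ).subtype).range = (T' : Subgroup _) := by
    rw [MonoidHom.range_comp, Subgroup.range_subtype]; rfl
  exact ⟨(T.equiv T').trans ((MulEquiv.subgroupCongr e2.symm).trans (MonoidHom.ofInjective hi).symm)⟩

/-! ### The torus -/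

/-- The diagonal element `diag (s, t, σ(st)/(st), σt⁻¹, σs⁻¹)`. -/
def tm (σ : K →+* K) (s t : K) : Matrix (Fin 5) (Fin 5) K :=
  diagonal ![s, t, σ (s * t) / (s * t), (σ t)⁻¹, (σ s)⁻¹]

def te (hσ : ∀ x, σ (σ x) = x) (s t : Kˣ) : SU5 σ :=
  ⟨⟨tm σ s t, by
    rw [tm, det_diagonal, Fin.prod_univ_five]; simp; field_simp⟩, by
    show (tm σ s t)ᵀ * J5 * (tm σ s t).map σ = J5
    ext i j
    rw [form_entry]
    fin_cases i <;> fin_cases j <;> simp [tm, J5, hσ]⟩

theorem mat_te (hσ : ∀ x, σ (σ x) = x) (s t : Kˣ) : mat (te hσ s t) = tm σ s t := rfl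

theorem tri_te (hσ : ∀ x, σ (σ x) = x) (s t : Kˣ) : Tri (mat (te hσ s t)) :=
  fun _ _ h => diagonal_apply_ne _ h.ne'

theorem mat_te_inv (hσ : ∀ x, σ (σ x) = x) (s t : Kˣ) : mat (te hσ s t)⁻¹ =
    diagonal ![(s : K)⁻¹, (t : K)⁻¹, s * t / σ (s * t), σ t, σ s] := by
  ext i j
  rw [mat_inv, mat_te]
  fin_cases i <;> fin_cases j <;> simp [tm, hσ, Fin.rev]

/-- Conjugation by a torus element. -/
theorem te_conj (hσ : ∀ x, σ (σ x) = x) (s t : Kˣ) (g : SU5 σ) :
    mat (te hσ s t * g * (te hσ s t)⁻¹) =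
      am σ (s / t) (t * (s * t) / σ (s * t)) (RingEquiv.refl K) (mat g) := by
  rw [mat_mul, mat_mul, mat_te_inv, mat_te, tm]
  ext i j
  rw [mul_diagonal, diagonal_mul]
  have := s.ne_zero
  have := t.ne_zero
  have : σ s ≠ 0 := (map_ne_zero σ).2 s.ne_zero
  have : σ t ≠ 0 := (map_ne_zero σ).2 t.ne_zero
  fin_cases i <;> fin_cases j <;> simp [am, dv, hσ] <;> field_simp

theorem tri_decomp (hσ : ∀ x, σ (σ x) = x) {g : SU5 σ} (h : Tri (mat g)) :
    ∃ u ∈ UU σ, ∃ s t : Kˣ, g = u * te hσ s t := by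
  have hd := mat_det g
  rw [det_tri h] at hd
  have hi : ∀ i, mat g i i * σ (mat g i.rev i.rev) = 1 := fun i => by
    rw [← mat_inv, ← h.mul_diag h.inv, ← mat_mul, mul_inv_cancel, mat_one, one_apply_eq]
  have n0 : mat g 0 0 ≠ 0 := left_ne_zero_of_mul_eq_one (hi 0)
  have n1 : mat g 1 1 ≠ 0 := left_ne_zero_of_mul_eq_one (hi 1)
  refine ⟨g * (te hσ (Units.mk0 _ n0) (Units.mk0 _ n1))⁻¹, ⟨h.mul (tri_te hσ _ _).inv, fun i => ?_⟩, _, _,
    (inv_mul_cancel_right _ _).symm⟩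
  have e3 : mat g 3 3 * σ (mat g 1 1) = 1 := hi 3
  have e4 : mat g 4 4 * σ (mat g 0 0) = 1 := hi 4
  have e2 : mat g 2 2 * (mat g 0 0 * mat g 1 1) = σ (mat g 0 0) * σ (mat g 1 1) := by
    linear_combination (σ (mat g 0 0) * σ (mat g 1 1)) * hd -
      (mat g 0 0 * mat g 1 1 * mat g 2 2) * (mat g 4 4 * σ (mat g 0 0) * e3 + e4)
  have m0 : σ (mat g 0 0) ≠ 0 := (map_ne_zero σ).2 n0
  have m1 : σ (mat g 1 1) ≠ 0 := (map_ne_zero σ).2 n1
  rw [mat_mul, h.mul_diag (tri_te hσ _ _).inv, mat_te_inv]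
  fin_cases i <;> simp [n0, n1, e3, e4]
  field_simp
  linear_combination e2

/-- The normalizer of `UU` is `UU` times the torus. -/
theorem norm_UU (h : UInvol σ) {g : SU5 σ} (hn : ∀ u ∈ UU σ, g⁻¹ * u * g ∈ UU σ) :
    ∃ u ∈ UU σ, ∃ s t : Kˣ, g = u * te h.invol s t :=
  tri_decomp h.invol (tri_of_norm h fun u hu => ⟨_, hn u hu, by group⟩)

end Cfsg.Agent.U5F
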