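import Mathlib
import Cfsg.Agent.UF.Defs
import Cfsg.Agent.U5F.Syl
import Cfsg.Agent.Fus.InvGroup
import Cfsg.Agent.Fus.ToTop

/-! The fusion system of `SU₅ ⋊ X` on the unipotent group `U5 k`. -/

set_option autoImplicit false
set_option linter.unusedSectionVars false

namespace Cfsg.Agent.U5F

open Subgroup Cfsg.FusionSystem Cfsg.Agent.Fus Cfsg.Agent.Cl Cfsg.Agent.UF Matrix

universe u v

/-- A system realized in a finite group of any universe is realizable. -/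
theorem isRealizable_of_realizes {Ω : Type v} [Group Ω] {S : Subgroup Ω} {F : FusionSystem S}
    {p : ℕ} [Fact p.Prime] {G : Type*} [Group G] [Finite G] {j : Ω → G} (h : F.Realizes j ⊤)
    (hS : IsPGroup p S) (hi : ¬ p ∣ (img j S).index) : F.IsRealizable p := by
  have : Small.{v} G := Countable.toSmall G
  let π : G ≃* Shrink.{v} G := MulEquiv.symm Shrink.mulEquiv
  have : Finite (Shrink.{v} G) := Finite.of_equiv _ π.toEquiv
  have h2 := h.quot hS hi π.toMonoidHom π.surjective (by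
    rw [π.toMonoidHom.ker_eq_bot_iff.2 π.injective, inf_bot_eq])
  refine ⟨_, inferInstance, inferInstance, _, h2.isRealizedBy, h2.exists_sylow hS ?_⟩
  rwa [h.img_comp_hom, index_map_of_bijective π.bijective]

/-- The system on `G` induced by an injective homomorphism into a finite group. -/
theorem exists_realizes {U G : Type*} [Group U] [Group G] [Finite G] (j : U →* G)
    (hj : Function.Injective j) : ∃ F : FusionSystem (⊤ : Subgroup U), F.Realizes j ⊤ := by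
  have h1 : ∀ y ∈ j.range, j (Function.invFun j y) = y := fun y hy => Function.invFun_eq hy
  have h2 : ∀ x, Function.invFun j (j x) = x := Function.leftInverse_invFun hj
  obtain ⟨F, hF⟩ := (groupFusionSystem j.range).exists_isIsoVia (θ := Function.invFun j)
    (η := j) (S' := ⊤) (fun a ha b hb => by
      obtain ⟨a, rfl⟩ := ha
      obtain ⟨b, rfl⟩ := hb
      rw [← map_mul, h2, h2, h2])
    (le_antisymm le_top fun x _ => h2 x ▸ mem_img_of_mem ⟨x, rfl⟩) h1
  exact ⟨F, hF.symm.realizes realizes_group⟩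

variable {k : Type u} [Field k] [StarRing k]

theorem sr (x : k) : starRingEnd k x = star x := rfl

theorem hs (x : k) : starRingEnd k (starRingEnd k x) = x := star_star x

/-- The unipotent group inside `SU₅`. -/
def j0 : U5 k →* SU5 (starRingEnd k) := MonoidHom.mk'
  (fun x => ue hs x.s x.u x.w x.t x.c (x.z - star x.s * x.t) x.hc (by simp [sr]; ring))
  fun x y => mat_inj (by
    rw [mat_mul, mat_ue, mat_ue, mat_ue, um_mul hs x.hc y.hc]
    congr 1; simp [sr]; ring)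

theorem mat_j0 (x : U5 k) :
    mat (j0 x) = um (starRingEnd k) x.s x.u x.w x.t x.c (x.z - star x.s * x.t) := rfl

theorem j0_inj : Function.Injective (j0 (k := k)) := fun x y h => by
  obtain ⟨e1, e2, e3, e4, e5, e6⟩ := um_inj ((mat_j0 x).symm.trans ((congrArg mat h).trans (mat_j0 y)))
  exact U5.ext e1 e2 e3 e5 e4 (by rw [e1, e4] at e6; linear_combination e6)

theorem range_j0 : (j0 (k := k)).range = UU (starRingEnd k) := by
  refine le_antisymm (by rintro _ ⟨x, rfl⟩; exact utri_um ..) fun g hg => ?_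
  obtain ⟨a, b, c, d, e, f, he, hf, rfl⟩ := hg.eq_ue hs
  refine ⟨⟨a, b, c, e, d, f + star a * d, he, ?_⟩, mat_inj ?_⟩
  · simp only [sr] at hf
    simp only [star_add, star_mul, star_star]
    linear_combination hf
  · rw [mat_j0, mat_ue, add_sub_cancel_right]

/-- `U5 k` is the unitriangular group. -/
noncomputable def uuEquiv : U5 k ≃* UU (starRingEnd k) :=
  (MonoidHom.ofInjective j0_inj).trans (MulEquiv.subgroupCongr range_j0)

theorem card_U5 {q : ℕ} (h : UField (starRingEnd k) q) : Nat.card (U5 k) = q ^ 10 :=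
  (Nat.card_congr uuEquiv.toEquiv).trans (card_UU h)

theorem isPGroup_U5 {p n : ℕ} [Fact p.Prime] (h : UField (starRingEnd k) (p ^ n)) :
    IsPGroup p (U5 k) := (isPGroup_UU h).of_equiv uuEquiv.symm

/-- The Sylow subgroups of `PSU₅` are isomorphic to `U5 k`. -/
theorem nonempty_sylow_U5 {p n : ℕ} [Fact p.Prime] (h : UField (starRingEnd k) (p ^ n)) (hn : 1 ≤ n)
    (T : Sylow p (PSU 5 k (p ^ n))) : Nonempty ((T : Subgroup (PSU 5 k (p ^ n))) ≃* U5 k) :=
  (nonempty_sylow_equiv h hn T).map fun e => e.trans uuEquiv.symm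

/-- A standard automorphism as an endomorphism of `SU₅`. -/
def sdEnd (γ : Sd k) : SU5 (starRingEnd k) →* SU5 (starRingEnd k) :=
  aut hs (Units.mk0 γ.a γ.ha) (Units.mk0 γ.b γ.hb) γ.τ γ.hτ

theorem mat_sdEnd (γ : Sd k) (g : SU5 (starRingEnd k)) :
    mat (sdEnd γ g) = am (starRingEnd k) γ.a γ.b γ.τ (mat g) := rfl

theorem sdEnd_mul (γ δ : Sd k) (g : SU5 (starRingEnd k)) : sdEnd (γ * δ) g = sdEnd γ (sdEnd δ g) :=
  mat_inj (am_am (σ := starRingEnd k) γ.hτ δ.a δ.b δ.τ (mat g)).symm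

theorem sdEnd_one (g : SU5 (starRingEnd k)) : sdEnd 1 g = g := mat_inj (am_one _)

/-- The standard automorphisms of `SU₅`. -/
def sdAut : Sd k →* MulAut (SU5 (starRingEnd k)) := MonoidHom.mk' (fun γ =>
  { toFun := sdEnd γ
    invFun := sdEnd γ⁻¹
    left_inv := fun x => by rw [← sdEnd_mul, inv_mul_cancel, sdEnd_one]
    right_inv := fun x => by rw [← sdEnd_mul, mul_inv_cancel, sdEnd_one]
    map_mul' := map_mul _ }) fun γ δ => MulEquiv.ext (sdEnd_mul γ δ)

theorem sdAut_j0 (γ : Sd k) (x : U5 k) : sdAut γ (j0 x) = j0 (γ.ap x) := mat_inj (by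
  show am (starRingEnd k) γ.a γ.b γ.τ (mat (j0 x)) = _
  rw [mat_j0, mat_j0, am_um hs γ.hτ γ.ha γ.hb]
  congr 1 <;> simp only [sr, Sd.ap_t, Sd.ap_z, Sd.ap_s, map_sub, map_mul, star_mul, Sd.hτ] <;> ring)

theorem te_j0 (s t : kˣ) (x : U5 k) : te hs s t * j0 x * (te hs s t)⁻¹ =
    j0 ((Sd.tor2 (s : k) s.ne_zero * Sd.tor1 (s * t : k) (s * t).ne_zero).ap x) := by
  rw [← sdAut_j0]
  refine mat_inj ((te_conj hs s t _).trans ?_)
  have := s.ne_zero
  have := t.ne_zero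
  show _ = am (starRingEnd k) (s ^ 2 * (s * t : k)⁻¹) ((s : k)⁻¹ * ((s * t) ^ 2 / star (s * t : k)))
    (RingEquiv.refl k) _
  congr 1
  · field_simp
  · rw [sr]; field_simp

/-- An element of `SU₅` given by its matrix. -/
def mk5 {σ : k →+* k} (M : Matrix (Fin 5) (Fin 5) k) (h1 : M.det = 1)
    (h2 : Mᵀ * J5 * M.map σ = J5) : SU5 σ := ⟨⟨M, h1⟩, h2⟩

theorem mat_mk5 {σ : k →+* k} (M : Matrix (Fin 5) (Fin 5) k) (h1 h2) :
    mat (mk5 (σ := σ) M h1 h2) = M := rfl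

/-- The Weyl element of the Levi factor `SU₃`. -/
def w1 : SU5 (starRingEnd k) :=
  mk5 !![1, 0, 0, 0, 0; 0, 0, 0, 1, 0; 0, 0, -1, 0, 0; 0, 1, 0, 0, 0; 0, 0, 0, 0, 1]
    (by simp [det_succ_row_zero, Fin.sum_univ_succ, Fin.succAbove]) (by
    ext i j
    rw [form_entry]
    fin_cases i <;> fin_cases j <;> simp [J5])

/-- The Weyl element of the Levi factor `SL₂`. -/
def w2 : SU5 (starRingEnd k) :=
  mk5 !![0, 1, 0, 0, 0; -1, 0, 0, 0, 0; 0, 0, 1, 0, 0; 0, 0, 0, 0, -1; 0, 0, 0, 1, 0]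
    (by simp [det_succ_row_zero, Fin.sum_univ_succ, Fin.succAbove]) (by
    ext i j
    rw [form_entry]
    fin_cases i <;> fin_cases j <;> simp [J5])

theorem um_w1 {σ : k →+* k} (a c d f : k) :
    um σ d 0 (-c) a 0 f *
      !![1, 0, 0, 0, 0; 0, 0, 0, 1, 0; 0, 0, -1, 0, 0; 0, 1, 0, 0, 0; 0, 0, 0, 0, 1] =
    !![1, 0, 0, 0, 0; 0, 0, 0, 1, 0; 0, 0, -1, 0, 0; 0, 1, 0, 0, 0; 0, 0, 0, 0, 1] *
      um σ a 0 c d 0 f := by
  ext i j
  fin_cases i <;> fin_cases j <;> simp [um, Matrix.mul_apply, Fin.sum_univ_five]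

theorem um_w2 {σ : k →+* k} (hσ : ∀ x, σ (σ x) = x) (b c d e f : k) :
    um σ 0 (-c) b (σ d + b * σ c) f e *
      !![0, 1, 0, 0, 0; -1, 0, 0, 0, 0; 0, 0, 1, 0, 0; 0, 0, 0, 0, -1; 0, 0, 0, 1, 0] =
    !![0, 1, 0, 0, 0; -1, 0, 0, 0, 0; 0, 0, 1, 0, 0; 0, 0, 0, 0, -1; 0, 0, 0, 1, 0] *
      um σ 0 b c d e f := by
  ext i j
  fin_cases i <;> fin_cases j <;> simp [um, Matrix.mul_apply, Fin.sum_univ_five, hσ] <;> ring

theorem w1_j0 {x : U5 k} (hx : x ∈ Q1 k) : j0 (n1 x) = w1 * j0 x * w1⁻¹ := by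
  refine eq_mul_inv_of_mul_eq (mat_inj ?_)
  rw [mat_mul, mat_mul, mat_j0, mat_j0, w1, mat_mk5, hx.1, hx.2, ← um_w1]
  congr 2
  simp only [n1]; ring

theorem w2_j0 {x : U5 k} (hx : x ∈ Q2 k) : j0 (n2 x) = w2 * j0 x * w2⁻¹ := by
  refine eq_mul_inv_of_mul_eq (mat_inj ?_)
  rw [mem_Q2] at hx
  rw [mat_mul, mat_mul, mat_j0, mat_j0, w2, mat_mk5, hx, star_zero, zero_mul, sub_zero,
    ← um_w2 hs]
  congr 2
  simp only [n2, star_zero, zero_mul, sub_zero]

theorem sd_eq_of_conj (hk : UInvol (starRingEnd k)) {γ δ : Sd k} {g : U5 k}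
    (h : ∀ x, γ.ap x = g * δ.ap x * g⁻¹) : γ = δ := by
  have hs' : ∀ a, γ.a * γ.τ a = δ.a * δ.τ a := fun a => by
    simpa using congrArg U5.s (h ⟨a, 0, 0, 0, 0, 0, by simp, by simp⟩)
  have ha : γ.a = δ.a := by simpa using hs' 1
  have hτ : γ.τ = δ.τ := RingEquiv.ext fun a => mul_left_cancel₀ γ.ha (ha ▸ hs' a)
  obtain ⟨c, hc⟩ := hk.exists_trace_eq (a := -1) (by simp)
  refine Sd.ext ha ?_ hτ
  simpa using congrArg U5.u (h ⟨0, 1, 0, c, 0, 0, by
    rw [star_one, ← sr]; linear_combination hc, by simp⟩)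

/-- The group `SU₅ ⋊ X`. -/
abbrev GX (X : Subgroup (Sd k)) := SU5 (starRingEnd k) ⋊[sdAut.comp X.subtype] X

/-- The embedding of `U5 k` in `SU₅ ⋊ X`. -/
def jX (X : Subgroup (Sd k)) : U5 k →* GX X := SemidirectProduct.inl.comp j0

theorem jX_inj (X : Subgroup (Sd k)) : Function.Injective (jX X) :=
  SemidirectProduct.inl_injective.comp j0_inj

theorem inr_jX {X : Subgroup (Sd k)} (γ : X) (x : U5 k) :
    SemidirectProduct.inr γ * jX X x * (SemidirectProduct.inr γ)⁻¹ = jX X (γ.1.ap x) := by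
  rw [← map_inv]
  exact (SemidirectProduct.inl_aut γ (j0 x)).symm.trans (congrArg _ (sdAut_j0 γ.1 x))

theorem inl_jX {X : Subgroup (Sd k)} {g : SU5 (starRingEnd k)} {x y : U5 k}
    (h : j0 y = g * j0 x * g⁻¹) :
    jX X y = SemidirectProduct.inl g * jX X x * (SemidirectProduct.inl g)⁻¹ := by
  show SemidirectProduct.inl (j0 y) = _
  rw [h, map_mul, map_mul, map_inv]; rfl

theorem index_jX {p n : ℕ} [hp : Fact p.Prime] (h : UField (starRingEnd k) (p ^ n)) (hn : 1 ≤ n)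
    {X : Subgroup (Sd k)} (hX : ¬ p ∣ Nat.card X) : ¬ p ∣ (img (jX X) ⊤).index := by
  rw [img_eq_map, jX, ← Subgroup.map_map, ← MonoidHom.range_eq_map, range_j0,
    index_map_of_injective _ SemidirectProduct.inl_injective,
    SemidirectProduct.range_inl_eq_ker_rightHom, index_ker,
    MonoidHom.range_eq_top.2 SemidirectProduct.rightHom_surjective, card_top]
  exact fun hd => (hp.out.dvd_mul.1 hd).elim (not_dvd_index_UU h hn) hX

/-- Elements of `SU₅ ⋊ X` normalizing the unipotent group act as inner times standard. -/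
theorem norm_jX (hk : UInvol (starRingEnd k)) [Finite k] {X : Subgroup (Sd k)}
    (h1 : ∀ l hl, Sd.tor1 l hl ∈ X) (h2 : ∀ m hm, Sd.tor2 m hm ∈ X) {g : GX X} {f : U5 k → U5 k}
    (e : ∀ x, jX X (f x) = g * jX X x * g⁻¹) :
    ∃ y : U5 k, ∃ γ ∈ X, ∀ x, f x = y * γ.ap x * y⁻¹ := by
  have e1 : ∀ x, j0 (f x) = g.left * j0 (g.right.1.ap x) * g.left⁻¹ := fun x =>
    SemidirectProduct.inl_injective (φ := sdAut.comp X.subtype) (by
      have := e x
      rw [← SemidirectProduct.inl_left_mul_inr_right g, _root_.mul_inv_rev, mul_assoc, mul_assoc,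
        ← mul_assoc (jX X x), ← mul_assoc (SemidirectProduct.inr _), ← mul_assoc (SemidirectProduct.inr _),
        inr_jX, ← mul_assoc] at this
      rw [map_mul, map_mul, map_inv]; exact this)
  have hi : Function.Injective f := fun x y hxy => by
    have := (e x).symm.trans (hxy ▸ e y)
    exact jX_inj X (mul_left_cancel (mul_right_cancel this))
  obtain ⟨u, hu, s, t, eg⟩ := norm_UU hk (g := g.left) fun u hu => by
    rw [← range_j0] at hu ⊢
    obtain ⟨y, rfl⟩ := hu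
    obtain ⟨x, rfl⟩ := Finite.surjective_of_injective hi y
    exact ⟨g.right.1.ap x, by rw [e1]; group⟩
  rw [← range_j0] at hu
  obtain ⟨y, rfl⟩ := hu
  refine ⟨y, _, X.mul_mem (X.mul_mem (h2 s s.ne_zero) (h1 (s * t) (s * t).ne_zero)) g.right.2,
    fun x => j0_inj ?_⟩
  rw [e1, eg, Sd.mul_ap, map_mul, map_mul, map_inv, ← te_j0]
  group

/-- The model: the fusion system of `SU₅ ⋊ X`. -/
theorem exists_model {p n : ℕ} [Fact p.Prime] (h : UField (starRingEnd k) (p ^ n)) (hn : 1 ≤ n)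
    {X : Subgroup (Sd k)} (hX : ¬ p ∣ Nat.card X) (h1 : ∀ l hl, Sd.tor1 l hl ∈ X)
    (h2 : ∀ m hm, Sd.tor2 m hm ∈ X) :
    ∃ F : FusionSystem (⊤ : Subgroup (U5 k)), F.Realizes (jX X) ⊤ ∧ F.IsSaturated p ∧ Std F ∧
      KF F = X ∧ F.Mor (Q1 k) n1 ∧ F.Mor (Q2 k) n2 := by
  have := h.finite
  have := finite_SU5 h
  have : Finite (GX X) := Finite.of_equiv _ SemidirectProduct.equivProd.symm
  obtain ⟨F, hF⟩ := exists_realizes (jX X) (jX_inj X)
  have hle : X ≤ KF F := fun γ hγ => hF.mor_iff.2 ⟨le_rfl, fun _ _ => mem_top _,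
    SemidirectProduct.inr ⟨γ, hγ⟩, mem_top _, fun x _ => (inr_jX ⟨γ, hγ⟩ x).symm⟩
  have key : ∀ f, F.Mor ⊤ f → ∃ y : U5 k, ∃ γ ∈ X, ∀ x, f x = y * γ.ap x * y⁻¹ := fun f hf => by
    obtain ⟨g, -, e⟩ := hF.exists_conj hf
    exact norm_jX h.invol h1 h2 fun x => e x (mem_top x)
  refine ⟨F, hF, hF.isSaturated ((isPGroup_U5 h).to_subgroup ⊤) ?_, fun f hf => ?_,
    le_antisymm (fun γ hγ => ?_) hle, ?_, ?_⟩
  · rw [relIndex_top_right]; exact index_jX h hn hX
  · obtain ⟨y, γ, hγ, e⟩ := key f hf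
    exact ⟨y, γ, hle hγ, e⟩
  · obtain ⟨y, δ, hδ, e⟩ := key _ hγ
    exact sd_eq_of_conj h.invol e ▸ hδ
  · exact hF.mor_iff.2 ⟨le_top, fun _ _ => mem_top _, _, mem_top _, fun x hx => inl_jX (w1_j0 hx)⟩
  · exact hF.mor_iff.2 ⟨le_top, fun _ _ => mem_top _, _, mem_top _, fun x hx => inl_jX (w2_j0 hx)⟩

/-- A system isomorphic to the model is realizable. -/
theorem isRealizable_of_model {p n : ℕ} [Fact p.Prime] (h : UField (starRingEnd k) (p ^ n))
    (hn : 1 ≤ n) {X : Subgroup (Sd k)} (hX : ¬ p ∣ Nat.card X)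
    {F : FusionSystem (⊤ : Subgroup (U5 k))} (hF : F.Realizes (jX X) ⊤) {Ω : Type*} [Group Ω]
    {S : Subgroup Ω} {E : FusionSystem S} {θ : Ω → U5 k} {η : U5 k → Ω} (hi : E.IsIsoVia F θ η)
    (hS : IsPGroup p S) : E.IsRealizable p := by
  have := h.finite
  have := finite_SU5 h
  have : Finite (GX X) := Finite.of_equiv _ SemidirectProduct.equivProd.symm
  refine isRealizable_of_realizes (hi.realizes hF) hS ?_
  rw [hi.mulOn.img_comp (k := jX X), hi.img_top]
  exact index_jX h hn hX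

end Cfsg.Agent.U5F
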